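import Groth.Agent.Lib.KFlat.TorFlat

/-!
Tor vanishing for flat modules on either side; tor dimension from a flat representative.
-/

set_option autoImplicit false

universe u

open CategoryTheory CategoryTheory.Limits MonoidalCategory

attribute [local instance] HasDerivedCategory.standard

namespace Groth.Agent.TorBal

open Groth.Agent.DMod

variable {A : Type u} [CommRing A]

/-- `Tor_{n+1}(M, N) = 0` for flat `M`. -/
theorem isZero_tor_flat_left (M : Type u) [AddCommGroup M] [Module A M] [Module.Flat A M] (n : ℕ)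
    (N : ModuleCat.{u} A) :
    IsZero (((Tor (ModuleCat.{u} A) (n + 1)).obj (ModuleCat.of A M)).obj N) :=
  (FlatSyz.isZero_tor_succ_iff (ProjectiveResolution.of N) n).2
    (Module.Flat.lTensor_preserves_injective_linearMap _ (Submodule.injective_subtype _))

/-- `Tor_{n+1}(N, M) = 0` for flat `M`. -/
theorem isZero_tor_flat_right (M : Type u) [AddCommGroup M] [Module A M] [Module.Flat A M] :
    ∀ (n : ℕ) (N : Type u) [AddCommGroup N] [Module A N],
      IsZero (((Tor (ModuleCat.{u} A) (n + 1)).obj (ModuleCat.of A N)).obj (ModuleCat.of A M)) := by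
  intro n
  induction n with
  | zero =>
    intro N _ _
    let Pr := ProjectiveResolution.of (ModuleCat.of A M)
    have := FlatSyz.flat_X Pr 0
    let q : Pr.complex.X 0 →ₗ[A] M := (Pr.π.f 0).hom
    have hq : Function.Surjective q := (ModuleCat.epi_iff_surjective (Pr.π.f 0)).1 inferInstance
    have hex : Function.Exact (LinearMap.range (FlatSyz.dLin Pr 0)).subtype q := fun x =>
      ⟨fun hx => ⟨⟨x, (ShortComplex.moduleCat_exact_iff _).1 Pr.exact₀ x hx⟩, rfl⟩,
        fun ⟨⟨_, z, hz⟩, hy⟩ => by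
          subst hy; subst hz
          exact LinearMap.congr_fun (congrArg ModuleCat.Hom.hom Pr.complex_d_comp_π_f_zero) z⟩
    rw [FlatSyz.isZero_tor_succ_iff Pr 0,
      FlatSyz.lTensor_injective_iff_rTensor_injective _
        (LinearMap.ker (Finsupp.linearCombination A (id : N → N))).injective_subtype _
        (LinearMap.exact_subtype_ker_map _) (Finsupp.linearCombination_id_surjective A N) _
        (Submodule.injective_subtype _) q hex hq]
    exact Module.Flat.rTensor_preserves_injective_linearMap _ (Submodule.injective_subtype _)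
  | succ n ih =>
    intro N _ _
    exact (FlatSyz.isZero_tor_shift _
      (LinearMap.ker (Finsupp.linearCombination A (id : N → N))).injective_subtype _
      (LinearMap.exact_subtype_ker_map _) (Finsupp.linearCombination_id_surjective A N) n).2
      (ih _)

/-- Cokernels of a left exact flat complex have bounded tor dimension. -/
theorem isZero_tor_Z (G : DRing.Cx A) (hf : ∀ i, Module.Flat A (G.X i)) (a : ℤ)
    (hlow : IsZero (G.X (a - 1))) (hex : ∀ j : ℤ, j < 0 → Subsingleton (G.homology j)) :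
    ∀ (k : ℕ) (j : ℤ), j = a + k → j ≤ 0 → ∀ (m : ℕ), k ≤ m → ∀ N : ModuleCat.{u} A,
      IsZero (((Tor (ModuleCat.{u} A) (m + 1)).obj (ModuleCat.of A (KFlat.TorFlat.Z G j))).obj N) := by
  intro k
  induction k with
  | zero =>
    intro j hj _ m _ N
    obtain rfl : j = a := by simpa using hj
    have := ModuleCat.subsingleton_of_isZero hlow
    have hbot : LinearMap.range (G.d (j - 1) j).hom = ⊥ := by
      rw [eq_bot_iff]
      rintro _ ⟨x, rfl⟩
      rw [Subsingleton.elim x 0, map_zero]
      exact zero_mem _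
    have := hf j
    have : Module.Flat A (KFlat.TorFlat.Z G j) :=
      Module.Flat.of_linearEquiv (Submodule.quotEquivOfEqBot _ hbot)
    exact isZero_tor_flat_left _ m N
  | succ k ih =>
    intro j hj hj0 m hm N
    obtain ⟨j, rfl⟩ : ∃ i : ℤ, j = i + 1 := ⟨j - 1, by omega⟩
    have hexact : ∀ x : G.X j, G.d j (j + 1) x = 0 → ∃ y, G.d (j - 1) j y = x :=
      (subsingleton_homology_iff G (i := j - 1) (k := j + 1) (by simp) (by simp)).1 (hex j (by omega))
    have := hf (j + 1)
    have hd : j + 1 - 1 = j := by omega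
    let i : KFlat.TorFlat.Z G j →ₗ[A] G.X (j + 1) :=
      (LinearMap.range (G.d (j - 1) j).hom).liftQ (G.d j (j + 1)).hom (by
        rintro _ ⟨y, rfl⟩
        change G.d j (j + 1) (G.d (j - 1) j y) = 0
        rw [← ModuleCat.comp_apply, G.d_comp_d]
        rfl)
    have hi : Function.Injective i := (injective_iff_map_eq_zero _).2 fun z hz => by
      obtain ⟨x, rfl⟩ := Submodule.mkQ_surjective _ z
      exact (Submodule.Quotient.mk_eq_zero _).2 (hexact x hz)
    have hex' : Function.Exact i (LinearMap.range (G.d (j + 1 - 1) (j + 1)).hom).mkQ := by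
      rw [LinearMap.exact_iff, Submodule.ker_mkQ]
      change _ = LinearMap.range ((LinearMap.range _).liftQ _ _)
      rw [Submodule.range_liftQ, hd]
    obtain ⟨m, rfl⟩ : ∃ m', m = m' + 1 := ⟨m - 1, by omega⟩
    exact (FlatSyz.isZero_tor_shift i hi _ hex' (Submodule.mkQ_surjective _) m).2
      (ih j (by omega) (by omega) m (by omega) N)

/-- A module with a flat representative in `[-d, 0]` has tor dimension at most `d`. -/
theorem hasTorDimLE_of_amplitude (M : Type u) [AddCommGroup M] [Module A M] (d : ℕ)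
    (h : DRing.HasTorAmplitudeIn A (-(d : ℤ)) 0 (Dual.inD A M)) : DRing.HasTorDimLE A d M := by
  intro N _ _ p hp
  obtain ⟨E, hE, hf, ⟨e⟩⟩ := h
  have : (Dual.inD A M).IsGE 0 := inferInstanceAs
    (((DerivedCategory.singleFunctor (ModuleCat.{u} A) 0).obj (ModuleCat.of A M)).IsGE 0)
  have : (DRing.toD E).IsGE 0 := (tS A).isGE_of_iso e.symm 0
  obtain ⟨_, _⟩ := (vanishesOutside_iff E (-(d : ℤ)) 0).1 hE
  obtain ⟨eT⟩ := exists_truncFrom_iso E 0
  obtain ⟨_, _⟩ := (vanishesOutside_iff _ _ _).1 (vanishesOutside_truncFrom E 0 0)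
  obtain ⟨T, ⟨t⟩⟩ := CochainComplex.exists_iso_single (truncFrom E 0) 0
  let eM : (truncFrom E 0).X 0 ≅ ModuleCat.of A M :=
    (HomologicalComplex.eval _ _ 0).mapIso t ≪≫
      HomologicalComplex.singleObjXSelf (ComplexShape.up ℤ) 0 T ≪≫
      (DerivedCategory.singleFunctor (ModuleCat.{u} A) 0).preimageIso
        ((DerivedCategory.singleFunctorIsoCompQ (ModuleCat.{u} A) 0).app _ ≪≫
          DerivedCategory.Q.mapIso t.symm ≪≫ eT ≪≫ e)
  have hlow : IsZero (E.X (-(d : ℤ) - 1)) := hE _ (Or.inl (by omega))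
  have hex : ∀ j : ℤ, j < 0 → Subsingleton (E.homology j) := fun j hj =>
    (subsingleton_HD_toD_iff E j).1 ((isGE_iff _ 0).1 inferInstance j hj)
  have h0 := isZero_tor_Z E hf (-(d : ℤ)) hlow hex d 0 (by omega) le_rfl (p - 1) (by omega)
    (ModuleCat.of A N)
  rw [show p - 1 + 1 = p by omega,
    KFlat.TorFlat.isZero_tor_congr ((truncFromBotEquiv E 0).trans eM.toLinearEquiv)] at h0
  exact ModuleCat.subsingleton_of_isZero h0

theorem amplitude_of_hasTorDimLE (M : Type u) [AddCommGroup M] [Module A M] (d : ℕ)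
    (h : DRing.HasTorDimLE A d M) : DRing.HasTorAmplitudeIn A (-(d : ℤ)) 0 (Dual.inD A M) := by
  obtain ⟨G, hG, hf, q, hq⟩ := KFlat.TorFlat.exists_flat_resolution M d h
  have : IsIso (DerivedCategory.Q.map q) := (DerivedCategory.isIso_Q_map_iff_quasiIso (ModuleCat.{u} A) q).2 hq
  exact ⟨G, hG, hf, ⟨asIso (DerivedCategory.Q.map q) ≪≫
    ((DerivedCategory.singleFunctorIsoCompQ (ModuleCat.{u} A) 0).app (ModuleCat.of A M)).symm⟩⟩

theorem flat_iff_hasTorDimLE_zero (M : Type u) [AddCommGroup M] [Module A M] :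
    DRing.HasTorDimLE A 0 M ↔ Module.Flat A M := by
  refine ⟨fun h => FlatSyz.flat_iff_isZero_tor_one.2 fun N => ?_, fun _ N _ _ p hp => ?_⟩
  · have := h N 1 Nat.one_pos
    exact ModuleCat.isZero_of_subsingleton _
  · obtain ⟨p, rfl⟩ : ∃ p', p = p' + 1 := ⟨p - 1, by omega⟩
    exact ModuleCat.subsingleton_of_isZero (isZero_tor_flat_left M p (ModuleCat.of A N))

end Groth.Agent.TorBal
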