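import Groth.Agent.Lib.TorBal.Dim
import Groth.Agent.Lib.DBaseChange.TorTri
import Groth.Agent.Lib.HomDim.LocalizePd
import Mathlib.CategoryTheory.Abelian.Projective.Extend

/-!
Perfect modules, finite global dimension, perfect complexes over regular rings.
-/

set_option autoImplicit false
set_option linter.unusedSectionVars false

universe u

open CategoryTheory CategoryTheory.Limits CategoryTheory.Pretriangulated MonoidalCategory

attribute [local instance] HasDerivedCategory.standard

namespace Groth.Agent.TorBal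

open Groth.Agent.DMod Groth.Agent.DBaseChange

variable {R : Type u} [CommRing R]

theorem amplitude_zero_of_flat (M : Type u) [AddCommGroup M] [Module R M] [Module.Flat R M] :
    DRing.HasTorAmplitudeIn R 0 0 (Dual.inD R M) := by
  simpa using amplitude_of_hasTorDimLE M 0 ((flat_iff_hasTorDimLE_zero M).2 inferInstance)

theorem amplitude_of_pd (d : ℕ) : ∀ (M : Type u) [AddCommGroup M] [Module R M],
    HasProjectiveDimensionLE (ModuleCat.of R M) d →
      DRing.HasTorAmplitudeIn R (-(d : ℤ)) 0 (Dual.inD R M) := by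
  induction d with
  | zero =>
    intro M _ _ h
    have : Module.Projective R M :=
      (IsProjective.iff_projective M).2 ((projective_iff_hasProjectiveDimensionLE_zero _).2 h)
    simpa using amplitude_zero_of_flat (R := R) M
  | succ d ih =>
    intro M _ _ h
    let p := Finsupp.linearCombination R (id : M → M)
    have hp : Function.Surjective p := Finsupp.linearCombination_id_surjective R M
    let i : LinearMap.ker p →ₗ[R] (M →₀ R) := (LinearMap.ker p).subtype
    have hex : Function.Exact i p := LinearMap.exact_subtype_ker_map p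
    have hiff := FlatSyz.hasProjectiveDimensionLE_succ_iff (R := R) (K := ↥(LinearMap.ker p)) (F := M →₀ R) (M := M) i (LinearMap.ker p).injective_subtype p hex hp d
    have hK := ih _ (hiff.1 h)
    obtain ⟨t, hT⟩ := exists_surj_triangle p hp
    exact torAmp_triangle₃ _ 0 _ hT
      (hasTorAmplitudeIn_mono (by omega) (by omega) hK)
      (hasTorAmplitudeIn_mono (by omega) (by omega) (amplitude_zero_of_flat (R := R) (M →₀ R)))

/-- If all modules have tor amplitude in `[-d, 0]`, so do complexes, shifted by their cohomology. -/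
theorem amplitude_of_homology (d : ℕ)
    (hM : ∀ (M : Type u) [AddCommGroup M] [Module R M],
      DRing.HasTorAmplitudeIn R (-(d : ℤ)) 0 (Dual.inD R M))
    (K : Dual.D R) (a b : ℤ) (h : ∀ i, i < a ∨ b < i → Subsingleton (Dual.HD R K i)) :
    DRing.HasTorAmplitudeIn R (a - d) b K := by
  refine prop_of_homology (fun L => DRing.HasTorAmplitudeIn R (a - d) b L)
    (fun e => hasTorAmplitudeIn_of_iso e) (fun L hL => hasTorAmplitudeIn_of_isZero hL _ _)
    (fun T hT h₁ h₃ => torAmp_triangle₂ _ _ T hT h₁ h₃) K a b h fun i => ?_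
  by_cases hi : i < a ∨ b < i
  · have : Subsingleton ((HH i).obj K) := h i hi
    exact hasTorAmplitudeIn_of_isZero
      (Functor.map_isZero (single i) (ModuleCat.isZero_of_subsingleton _)) _ _
  · exact hasTorAmplitudeIn_single ((HH i).obj K)
      (hasTorAmplitudeIn_mono (by omega) (by omega) (hM _))

theorem exists_amplitude_of_homology (K : Dual.D R) (a b : ℤ)
    (h : ∀ i, i < a ∨ b < i → Subsingleton (Dual.HD R K i))
    (hH : ∀ i, ∃ c e, DRing.HasTorAmplitudeIn R c e (Dual.inD R (Dual.HD R K i))) :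
    DRing.HasFiniteTorDimCx R K := by
  refine prop_of_homology (fun L => DRing.HasFiniteTorDimCx R L)
    (fun e ⟨c, d, h⟩ => ⟨c, d, hasTorAmplitudeIn_of_iso e h⟩)
    (fun L hL => ⟨0, 0, hasTorAmplitudeIn_of_isZero hL _ _⟩)
    (fun T hT ⟨c, d, h₁⟩ ⟨c', d', h₃⟩ => ⟨min c c', max d d', torAmp_triangle₂ _ _ T hT
      (hasTorAmplitudeIn_mono (by omega) (by omega) h₁)
      (hasTorAmplitudeIn_mono (by omega) (by omega) h₃)⟩) K a b h fun i => ?_
  obtain ⟨c, e, hce⟩ := hH i
  exact ⟨c + i, e + i, hasTorAmplitudeIn_single ((HH i).obj K)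
    (hasTorAmplitudeIn_mono (by omega) (by omega) hce)⟩

theorem homology_of_amplitude {K : Dual.D R} {a b : ℤ} (h : DRing.HasTorAmplitudeIn R a b K) (i : ℤ)
    (hi : i < a ∨ b < i) : Subsingleton (Dual.HD R K i) := by
  obtain ⟨E, hE, -, ⟨e⟩⟩ := h
  have := isGE_toD hE
  have := isLE_toD hE
  rcases hi with hi | hi
  · exact (isGE_iff K a).1 ((tS R).isGE_of_iso e a) i hi
  · exact (isLE_iff K b).1 ((tS R).isLE_of_iso e b) i hi

theorem homology_of_finiteTorDim {K : Dual.D R} (h : DRing.HasFiniteTorDimCx R K) :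
    ∃ a b : ℤ, ∀ i : ℤ, i < a ∨ b < i → Subsingleton (Dual.HD R K i) :=
  have ⟨a, b, h⟩ := h
  ⟨a, b, homology_of_amplitude h⟩

/-! ### Regular noetherian rings -/

theorem finite_homology_of_termwiseFinite [IsNoetherianRing R] {E : DRing.Cx R}
    (hE : ∀ i, Module.Finite R (E.X i)) (i : ℤ) : Module.Finite R (E.homology i) := by
  have := hE i
  have : IsNoetherian R (E.X i) := isNoetherian_of_isNoetherianRing_of_finite R _
  have : Module.Finite R (E.cycles i) :=
    Module.Finite.of_injective (E.iCycles i).hom (iCycles_injective E i)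
  exact Module.Finite.of_surjective (E.homologyπ i).hom (homologyπ_surjective E i)

theorem finite_HD_of_isPerfect [IsNoetherianRing R] {K : Dual.D R} (h : DRing.IsPerfect R K)
    (i : ℤ) : Module.Finite R (Dual.HD R K i) := by
  obtain ⟨E, a, b, hE, hF, ⟨e⟩⟩ := h
  have := finite_homology_of_termwiseFinite (E := E) (fun j => (hF j).1) i
  have : Module.Finite R ((HomologicalComplex.homologyFunctor (ModuleCat.{u} R) (ComplexShape.up ℤ) i).obj E) := this
  exact Module.Finite.equiv
    (((DerivedCategory.homologyFunctorFactors (ModuleCat.{u} R) i).app E).symm ≪≫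
      (HH i).mapIso e).toLinearEquiv

theorem isPerfectModule_of_regular [IsRegularRing R] (M : Type u) [AddCommGroup M] [Module R M]
    [Module.Finite R M] : DRing.IsPerfectModule R M := by
  obtain ⟨d, hd⟩ := HomDim.exists_hasProjectiveDimensionLE_of_regular R M
  exact isPerfect_of_pc_of_torAmp ((pcModule'_iff M).2 fun m => pcModule_of_noetherian M m)
    (amplitude_of_pd d M hd)

theorem isPerfect_of_bounded_finite [IsRegularRing R] (K : Dual.D R) (a b : ℤ)
    (h : ∀ i, i < a ∨ b < i → Subsingleton (Dual.HD R K i))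
    (hf : ∀ i, Module.Finite R (Dual.HD R K i)) : DRing.IsPerfect R K := by
  refine prop_of_homology (fun L => DRing.IsPerfect R L) (fun e => isPerfect_of_iso e)
    (fun L hL => isPerfect_of_isZero hL) (fun T hT h₁ h₃ => isPerfect_triangle₂ T hT h₁ h₃)
    K a b h fun i => ?_
  have := hf i
  exact isPerfect_single i _ (isPerfectModule_of_regular (Dual.HD R K i))

/-! ### Perfect modules and finite projective resolutions -/

theorem amplitude_shrink {K : Dual.D R} {a b : ℤ} (c : ℤ) [K.IsLE c]
    (h : DRing.HasTorAmplitudeIn R a b K) : DRing.HasTorAmplitudeIn R a c K := by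
  obtain ⟨P, hP, hPf, ⟨e⟩⟩ := exists_free_resolution K c
  have hfl : ∀ i, Module.Flat R (P.X i) := fun i => have := hPf i; inferInstance
  have hb := torBound_of_hasTorAmplitudeIn P c hfl a b (hasTorAmplitudeIn_of_iso e.symm h)
  refine hasTorAmplitudeIn_of_iso e (hasTorAmplitudeIn_of_torBound P c hfl a c fun M => ⟨(hb M).1, ?_⟩)
  have : ((tm M).obj P).IsStrictlyLE c :=
    (vanishesAbove_iff _ c).1 fun i hi => Functor.map_isZero (tensorRight M)
      (P.isZero_of_isStrictlyLE c i hi)
  exact (inferInstance : (DerivedCategory.Q.obj ((tm M).obj P)).IsLE c)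

theorem isPerfectModule_of_resolution (M : Type u) [AddCommGroup M] [Module R M]
    (P : ProjectiveResolution (ModuleCat.of R M)) (d : ℕ)
    (h0 : ∀ i : ℕ, d < i → IsZero (P.complex.X i)) (hf : ∀ i : ℕ, Module.Finite R (P.complex.X i)) :
    DRing.IsPerfectModule R M := by
  refine ⟨P.cochainComplex, -(d : ℤ), 0, fun i hi => ?_, fun i => ?_,
    ⟨asIso (DerivedCategory.Q.map P.π') ≪≫
      ((DerivedCategory.singleFunctorIsoCompQ (ModuleCat.{u} R) 0).app (ModuleCat.of R M)).symm⟩⟩
  · by_cases h : i ≤ 0
    · obtain ⟨k, rfl⟩ := Int.exists_eq_neg_ofNat h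
      exact (h0 k (by omega)).of_iso (P.cochainComplexXIso (-k) k)
    · exact P.cochainComplex.isZero_of_isStrictlyLE 0 i (by omega)
  · refine ⟨?_, (IsProjective.iff_projective (P.cochainComplex.X i)).2 (inferInstance : Projective (P.cochainComplex.X i))⟩
    by_cases h : i ≤ 0
    · obtain ⟨k, rfl⟩ := Int.exists_eq_neg_ofNat h
      have := hf k
      exact Module.Finite.equiv (P.cochainComplexXIso (-k) k).toLinearEquiv.symm
    · have := ModuleCat.subsingleton_of_isZero
        (P.cochainComplex.isZero_of_isStrictlyLE 0 i (by omega))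
      infer_instance

/-- A projective resolution from a resolving cochain complex. -/
theorem exists_resolution_of_qis (M : ModuleCat.{u} R) (E : DRing.Cx R)
    (φ : E ⟶ (HomologicalComplex.single (ModuleCat.{u} R) (ComplexShape.up ℤ) 0).obj M) (hφ : QuasiIso φ)
    (hp : ∀ i, Module.Projective R (E.X i)) (htop : IsZero (E.X 1)) :
    ∃ P : ProjectiveResolution M, ∀ n : ℕ, Nonempty (P.complex.X n ≅ E.X (-(n : ℤ))) := by
  let C : ChainComplex (ModuleCat.{u} R) ℕ := E.restriction ComplexShape.embeddingDownNat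
  have eX : ∀ n : ℕ, C.X n = E.X (-(n : ℤ)) := fun _ => rfl
  let f₀ : E.X 0 ⟶ M := φ.f 0 ≫ (HomologicalComplex.singleObjXSelf (ComplexShape.up ℤ) 0 M).hom
  have hd : C.d 1 0 ≫ f₀ = 0 := by
    change E.d (-1) 0 ≫ φ.f 0 ≫ _ = 0
    rw [← Category.assoc, ← φ.comm, HomologicalComplex.single_obj_d, comp_zero, zero_comp]
  let π : C ⟶ (ChainComplex.single₀ (ModuleCat.{u} R)).obj M :=
    (ChainComplex.toSingle₀Equiv C M).symm ⟨f₀, hd⟩
  have hπ : π.f 0 = f₀ := rfl
  have hbij : ∀ j : ℤ, Function.Bijective (HomologicalComplex.homologyMap φ j) := fun j =>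
    (ConcreteCategory.isIso_iff_bijective _).1 inferInstance
  have hproj : ∀ n : ℕ, Projective (C.X n) := fun n =>
    (IsProjective.iff_projective (E.X (-(n : ℤ)))).1 (hp _)
  have hsingle : ∀ j : ℤ, j ≠ 0 → Subsingleton
      (((HomologicalComplex.single (ModuleCat.{u} R) (ComplexShape.up ℤ) 0).obj M).X j) := fun j hj =>
    ModuleCat.subsingleton_of_isZero (HomologicalComplex.isZero_single_obj_X _ _ _ _ hj)
  have hq : QuasiIso π := by
    rw [quasiIso_iff]
    intro n
    cases n with
    | zero =>
      rw [quasiIsoAt_iff_isIso_homologyMap, ConcreteCategory.isIso_iff_bijective]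
      refine homologyMap_bijective_of π (i := 1) (k := 0) (by simp) (by simp) (fun x _ => ?_)
        (fun w y _ hy => ?_)
      · obtain ⟨w, y, -, hw⟩ := (homologyMap_surjective_iff φ (i := -1) (k := 1) (by simp) (by simp)).1
          (hbij 0).2 ((HomologicalComplex.singleObjXSelf (ComplexShape.up ℤ) 0 M).inv x) (by
            rw [HomologicalComplex.single_obj_d]; rfl)
        have := hsingle (-1) (by omega)
        rw [Subsingleton.elim y 0, map_zero, add_zero] at hw
        refine ⟨w, 0, by rw [C.shape 0 0 (by simp)]; rfl, ?_⟩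
        rw [map_zero, add_zero, hπ]
        change (HomologicalComplex.singleObjXSelf (ComplexShape.up ℤ) 0 M).hom (φ.f 0 w) = x
        rw [hw, ← ModuleCat.comp_apply, Iso.inv_hom_id]; rfl
      · have h0 : φ.f 0 w = 0 := by
          rw [HomologicalComplex.single_obj_d] at hy
          refine (HomologicalComplex.singleObjXSelf (ComplexShape.up ℤ) 0 M).toLinearEquiv.injective ?_
          rw [map_zero]
          exact hy.symm
        have hd1 : E.d 0 1 w = 0 := (ModuleCat.subsingleton_of_isZero htop).elim _ _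
        obtain ⟨z, hz⟩ := exists_cycle (K := E) (j := 0) (k := 1) (by simp) w hd1
        have : E.homologyπ 0 z = 0 := (hbij 0).1 (by
          rw [homologyMap_π, map_zero]
          have : HomologicalComplex.cyclesMap φ 0 z = 0 := iCycles_injective _ 0 (by
            rw [iCycles_cyclesMap, hz, h0, map_zero])
          rw [this, map_zero])
        obtain ⟨v, hv⟩ := (homologyπ_eq_zero_iff (i := -1) (by simp) z).1 this
        exact ⟨v, hv.trans hz⟩
    | succ n =>
      rw [quasiIsoAt_iff_exactAt' π (n + 1) (ChainComplex.exactAt_succ_single_obj _ _),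
        exactAt_iff_subsingleton, subsingleton_homology_iff C (i := n + 2) (k := n) (by simp) (by simp)]
      intro x hx
      have h2 := hbij (-((n + 1 : ℕ) : ℤ))
      have : Subsingleton (E.homology (-((n + 1 : ℕ) : ℤ))) := by
        have hz : Subsingleton (((HomologicalComplex.single (ModuleCat.{u} R) (ComplexShape.up ℤ) 0).obj
            M).homology (-((n + 1 : ℕ) : ℤ))) :=
          (exactAt_iff_subsingleton _ _).1 (HomologicalComplex.exactAt_single_obj _ _ _ _ (by omega))
        exact h2.1.subsingleton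
      exact (subsingleton_homology_iff E (i := -((n + 2 : ℕ) : ℤ)) (k := -(n : ℤ))
        (by simp; omega) (by simp)).1 this x hx
  exact ⟨{ complex := C, projective := hproj, π := π, quasiIso := hq }, fun n => ⟨eqToIso (eX n)⟩⟩

theorem exists_resolution_of_isPerfectModule (M : Type u) [AddCommGroup M] [Module R M]
    (h : DRing.IsPerfectModule R M) :
    ∃ (P : ProjectiveResolution (ModuleCat.of R M)) (d : ℕ),
      (∀ i : ℕ, d < i → IsZero (P.complex.X i)) ∧ ∀ i : ℕ, Module.Finite R (P.complex.X i) := by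
  obtain ⟨a, b, hab⟩ := torAmp_of_isPerfect h
  have : (Dual.inD R M).IsLE 0 := isLE_single 0 (ModuleCat.of R M)
  let d := (-a).toNat
  obtain ⟨E, hE, hF, ⟨e⟩⟩ := exists_finProjAmp ((pc'_iff _).1 (pc'_of_perfect h) (-(d : ℤ) - 1))
    (hasTorAmplitudeIn_mono (a' := -(d : ℤ)) (b' := 0) (by omega) le_rfl (amplitude_shrink 0 hab))
  obtain ⟨_, _⟩ := (vanishesOutside_iff E (-(d : ℤ)) 0).1 hE
  have := isKProjective 0 fun i => (hF i).2
  obtain ⟨φ, hφ⟩ := exists_map_eq
    (e ≪≫ (DerivedCategory.singleFunctorIsoCompQ (ModuleCat.{u} R) 0).app (ModuleCat.of R M)).hom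
  have : QuasiIso φ := (DerivedCategory.isIso_Q_map_iff_quasiIso (ModuleCat.{u} R) φ).1 (by
    rw [hφ]
    infer_instance)
  obtain ⟨P, hP⟩ := exists_resolution_of_qis (ModuleCat.of R M) E φ this (fun i => (hF i).2) (hE 1 (Or.inr (by omega)))
  refine ⟨P, d, fun i hi => ?_, fun i => ?_⟩
  · obtain ⟨eP⟩ := hP i
    exact (hE _ (Or.inl (by omega))).of_iso eP
  · obtain ⟨eP⟩ := hP i
    have := (hF (-(i : ℤ))).1
    exact Module.Finite.equiv eP.toLinearEquiv.symm

end Groth.Agent.TorBal
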